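import Groth.Agent.Hensel.Local
import Groth.Agent.Hensel.FiniteEtaleLift
import Groth.Agent.HenselField7.Basic
import Mathlib.RingTheory.Trace.Basic
import Mathlib.FieldTheory.Galois.Basic
import Mathlib.RingTheory.Etale.Field
import Mathlib.RingTheory.LocalRing.ResidueField.Basic

/-!
Unramified lifts of finite separable residue extensions of a henselian local ring, norms and Hilbert 90 for
their units congruent to one.
-/

universe u

set_option linter.style.haveILetI false
set_option backward.isDefEq.respectTransparency.types false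

open scoped TensorProduct

namespace Groth.Agent.DixBrauer.HenselUnits

open Polynomial

section lift

variable (R : Type u) [CommRing R] [HenselianLocalRing R]
variable (M : Type u) [Field M] [Algebra (IsLocalRing.ResidueField R) M]
  [FiniteDimensional (IsLocalRing.ResidueField R) M] [Algebra.IsSeparable (IsLocalRing.ResidueField R) M]

/-- An unramified lift of a residue extension. -/
theorem exists_lift : ∃ (B : Type u) (_ : CommRing B) (_ : Algebra R B) (_ : HenselianLocalRing B)
    (_ : Module.Finite R B) (_ : Algebra.Etale R B)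
    (e : IsLocalRing.ResidueField R ⊗[R] B ≃ₐ[IsLocalRing.ResidueField R] M),
      Function.Surjective (fun b : B => e (1 ⊗ₜ b)) ∧
      ∀ b : B, e (1 ⊗ₜ b) = 0 ↔ b ∈ IsLocalRing.maximalIdeal B := by
  let k := IsLocalRing.ResidueField R
  haveI : HenselianRing R (IsLocalRing.maximalIdeal R) := inferInstance
  haveI : Algebra.Etale k M := by
    have := (Algebra.FormallyEtale.iff_isSeparable k M).2 inferInstance
    exact ⟨inferInstance, (Algebra.FinitePresentation.of_finiteType).1 inferInstance⟩
  letI : Algebra (R ⧸ IsLocalRing.maximalIdeal R) M := inferInstanceAs (Algebra k M)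
  haveI : Module.Finite (R ⧸ IsLocalRing.maximalIdeal R) M := inferInstanceAs (Module.Finite k M)
  haveI : Algebra.Etale (R ⧸ IsLocalRing.maximalIdeal R) M := ‹Algebra.Etale k M›
  obtain ⟨B, _, _, hfin, het, ⟨e⟩⟩ := Hensel.exists_finite_etale_lift (A := R) (I := IsLocalRing.maximalIdeal R) M
  let e' : k ⊗[R] B ≃ₐ[k] M := e
  let r : B →+* M := e'.toAlgHom.toRingHom.comp (Algebra.TensorProduct.includeRight (R := R) (A := k) (B := B)).toRingHom
  have hsurjk : Function.Surjective (algebraMap R k) := IsLocalRing.residue_surjective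
  have hone : ∀ z : k ⊗[R] B, ∃ b : B, (1 : k) ⊗ₜ[R] b = z := by
    intro z
    induction z using TensorProduct.induction_on with
    | zero => exact ⟨0, TensorProduct.tmul_zero _ _⟩
    | tmul c b =>
      obtain ⟨a, rfl⟩ := hsurjk c
      exact ⟨a • b, by rw [← TensorProduct.smul_tmul, Algebra.smul_def, mul_one]⟩
    | add x y hx hy =>
      obtain ⟨a, rfl⟩ := hx
      obtain ⟨b, rfl⟩ := hy
      exact ⟨a + b, TensorProduct.tmul_add _ _ _⟩
  have hrsurj : Function.Surjective r := fun m => by
    obtain ⟨b, hb⟩ := hone (e'.symm m)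
    exact ⟨b, (congrArg e' hb).trans (e'.apply_symm_apply m)⟩
  have hker : RingHom.ker r ≤ (IsLocalRing.maximalIdeal R).map (algebraMap R B) := fun b hb => by
    have h0 : (1 : k) ⊗ₜ[R] b = 0 := e'.injective ((hb : r b = 0).trans (map_zero e').symm)
    let q : (B ⧸ (IsLocalRing.maximalIdeal R).map (algebraMap R B)) ≃ₐ[R] k ⊗[R] B :=
      ((Algebra.TensorProduct.quotIdealMapEquivTensorQuot B (IsLocalRing.maximalIdeal R)).restrictScalars R).trans
        (Algebra.TensorProduct.comm R B (R ⧸ IsLocalRing.maximalIdeal R))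
    have hq : q (Ideal.Quotient.mk _ b) = (1 : k) ⊗ₜ b := by simp [q, k]; rfl
    exact Ideal.Quotient.eq_zero_iff_mem.1 (q.injective (hq.trans (h0.trans (map_zero q).symm)))
  haveI hmax : (RingHom.ker r).IsMaximal := RingHom.ker_isMaximal_of_surjective r hrsurj
  haveI : Nontrivial B := r.domain_nontrivial
  haveI : IsLocalRing B := by
    refine IsLocalRing.of_unique_max_ideal ⟨RingHom.ker r, hmax, fun I hI => ?_⟩
    have hle : (IsLocalRing.maximalIdeal R).map (algebraMap R B) ≤ I :=
      (Hensel.map_maximalIdeal_le_jacobson R B).trans (sInf_le ⟨bot_le, hI⟩)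
    exact (hmax.eq_of_le hI.ne_top (hker.trans hle)).symm
  haveI := Hensel.henselianLocalRing_of_finite R B
  refine ⟨B, inferInstance, inferInstance, inferInstance, hfin, het, e', hrsurj, fun b => ?_⟩
  rw [← IsLocalRing.eq_maximalIdeal hmax]
  rfl

end lift

section units

variable {E M : Type u} [Field E] [Field M] [Algebra E M] [FiniteDimensional E M] [IsGalois E M]
variable {B : Type u} [CommRing B] [HenselianLocalRing B] (r : B →+* M) (hr : Function.Surjective r)
  (hker : ∀ b, r b = 0 ↔ b ∈ IsLocalRing.maximalIdeal B)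
variable (ρ : (M ≃ₐ[E] M) → (B →+* B)) (hρ : ∀ g h b, ρ (g * h) b = ρ g (ρ h b))
  (hρr : ∀ g b, r (ρ g b) = g (r b))

include hker in
theorem isUnit_iff (b : B) : IsUnit b ↔ r b ≠ 0 := by
  rw [ne_eq, hker, IsLocalRing.mem_maximalIdeal, mem_nonunits_iff, not_not]

include hr hρr in
theorem exists_sum_ne_zero : ∃ y : B, r (∑ g, ρ g y) ≠ 0 := by
  obtain ⟨x, hx⟩ : ∃ x : M, Algebra.trace E M x ≠ 0 := by
    by_contra h
    simp only [not_exists, not_not] at h
    exact Algebra.trace_ne_zero E M (LinearMap.ext h)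
  obtain ⟨y, rfl⟩ := hr x
  refine ⟨y, fun h => hx ((algebraMap E M).injective ?_)⟩
  rw [map_zero, trace_eq_sum_automorphisms, ← h, map_sum]
  exact Finset.sum_congr rfl fun g _ => (hρr g y).symm

include hr hker hρ hρr in
/-- Norms are surjective on units congruent to one. -/
theorem exists_prod_eq (b : B) (hb : r b = 1) (hinv : ∀ g, ρ g b = b) :
    ∃ c : B, r c = 1 ∧ ∏ g, ρ g c = b := by
  classical
  obtain ⟨y, hy⟩ := exists_sum_ne_zero r hr ρ hρr
  let f : B[X] := (∏ g : M ≃ₐ[E] M, (1 + C (ρ g y) * X)) - C b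
  have hd : f.derivative.eval 0 = ∑ g : M ≃ₐ[E] M, ρ g y := by
    simp [f, derivative_prod_finset, eval_finsetSum, eval_prod]
  have h0 : f.eval 0 = 1 - b := by simp [f, eval_prod]
  obtain ⟨t, ht, ht0⟩ := Hensel.exists_root_lift (IsLocalRing.maximalIdeal B) f 0
    (by rw [h0, ← hker, map_sub, map_one, hb, sub_self])
    (by rw [hd]; exact ((isUnit_iff r hker _).2 hy).map _)
  rw [sub_zero] at ht0
  have htr : r t = 0 := (hker t).2 ht0
  have hu : IsUnit (f.derivative.eval t) := by
    rw [isUnit_iff r hker]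
    intro h
    refine hy ?_
    rw [← hd, ← h]
    obtain ⟨c, hc⟩ := sub_dvd_eval_sub t 0 f.derivative
    have := congrArg r hc
    rw [map_sub, map_mul, sub_zero, htr, zero_mul, sub_eq_zero] at this
    exact this.symm
  have hfix : ∀ g, ρ g t = t := fun g => by
    refine (HenselField7.root_unique f ht ?_ ?_ hu).symm
    · have hmap : f.map (ρ g) = f := by
        simp only [f, Polynomial.map_sub, Polynomial.map_prod, Polynomial.map_add, Polynomial.map_one,
          Polynomial.map_mul, map_C, map_X, hinv]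
        congr 1
        exact Fintype.prod_equiv (Equiv.mulLeft g) _ _ fun h => by rw [Equiv.coe_mulLeft, hρ]
      show f.eval (ρ g t) = 0
      rw [← hmap, eval_map, eval₂_at_apply, ht, map_zero]
    · rw [← hker, map_sub, hρr, htr, map_zero, sub_zero]
  refine ⟨1 + t * y, by rw [map_add, map_one, map_mul, htr, zero_mul, add_zero], ?_⟩
  have he : f.eval t = 0 := ht
  simp only [f, eval_sub, eval_prod, eval_add, eval_one, eval_mul, eval_C, eval_X, sub_eq_zero] at he
  refine Eq.trans ?_ he
  exact Finset.prod_congr rfl fun g _ => by rw [map_add, map_one, map_mul, hfix, mul_comm]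

include hr hker hρ hρr in
/-- Hilbert 90 for units congruent to one. -/
theorem exists_coboundary (c : (M ≃ₐ[E] M) → B) (hc1 : ∀ g, r (c g) = 1)
    (hc : ∀ g h, c (g * h) = ρ g (c h) * c g) :
    ∃ b : B, r b = 1 ∧ ∀ g, c g * b = ρ g b := by
  classical
  obtain ⟨y, hy⟩ := exists_sum_ne_zero r hr ρ hρr
  let e := ∑ g, ρ g y
  let z := ∑ g, c g * ρ g y
  have hrz : r z = r e := by simp [z, e, hc1]
  obtain ⟨w, hw⟩ := ((isUnit_iff r hker z).2 (hrz ▸ hy)).exists_right_inv
  have hz : ∀ g, c g * ρ g z = z := fun g => by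
    simp only [z, map_sum, map_mul, Finset.mul_sum]
    refine Fintype.sum_equiv (Equiv.mulLeft g) _ _ fun h => ?_
    rw [Equiv.coe_mulLeft, hc, hρ, ← mul_assoc, mul_comm (c g)]
  have he : ∀ g, ρ g e = e := fun g => by
    simp only [e, map_sum]
    exact Fintype.sum_equiv (Equiv.mulLeft g) _ _ fun h => by rw [Equiv.coe_mulLeft, hρ]
  refine ⟨e * w, ?_, fun g => ?_⟩
  · rw [map_mul, ← hrz, ← map_mul, hw, map_one]
  · have h1 : ρ g z * ρ g w = 1 := by rw [← map_mul, hw, map_one]
    rw [map_mul, he]
    calc c g * (e * w) = e * (w * c g) * (ρ g z * ρ g w) := by rw [h1]; ring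
      _ = e * (w * (c g * ρ g z)) * ρ g w := by ring
      _ = e * ρ g w := by rw [hz, mul_comm w z, hw]; ring

end units

end Groth.Agent.DixBrauer.HenselUnits
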