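import Groth.Agent.DixBrauer.HenselUnits.Model
import Groth.Agent.DixBrauer.FinitePush
import Groth.Agent.EtMVLib.HpullApply

/-!
`H^i(R, G_m) ≅ H^i(k, G_m)` for a henselian local ring with residue field `k`.
-/

universe u

set_option linter.style.haveILetI false
set_option linter.unusedSectionVars false
set_option backward.isDefEq.respectTransparency.types false

open CategoryTheory CategoryTheory.Limits CategoryTheory.Abelian AlgebraicGeometry Opposite
open scoped TensorProduct

namespace Groth.Agent.DixBrauer.HenselUnits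

open GalCover

variable {R : Type u} [CommRing R] [HenselianLocalRing R]

theorem epi_alpha : Epi (GmComp.alpha (cpt' (R := R))) := by
  haveI : IsClosedImmersion (cpt' (R := R)) :=
    IsClosedImmersion.spec_of_surjective _ IsLocalRing.residue_surjective
  have hrange : Set.range (cpt' (R := R)).base = {IsLocalRing.closedPoint R} :=
    Set.eq_singleton_iff_unique_mem.2
      ⟨⟨default, EtFound.cpt_base R _⟩, fun _ ⟨w, hw⟩ => hw.symm.trans (EtFound.cpt_base R w)⟩
  haveI : Epi ((EtCoh.pull (cpt' (R := R))).map (EtLim.GmPush (cpt' (R := R)))) := by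
    refine (EtFound.epi_iff_stalks _).2 fun Ω _ _ η => ?_
    have hx : (η ≫ cpt' (R := R)).base (default : Spec (CommRingCat.of Ω)) = IsLocalRing.closedPoint R := by
      rw [Scheme.Hom.comp_apply]
      exact hrange.le ⟨_, rfl⟩
    have h1 := GenericPoint.surjective_stalk_GmPush (cpt' (R := R)) hrange (η ≫ cpt' (R := R)) hx
    let σ := EtFound.sheafFiberPullIso (A := AddCommGrpCat.{u + 1}) (cpt' (R := R)) η
    intro y
    obtain ⟨a, ha⟩ := h1 ((σ.hom.app _) y)
    refine ⟨(σ.inv.app _) a, ?_⟩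
    refine (ConcreteCategory.congr_hom (σ.inv.naturality (EtLim.GmPush (cpt' (R := R)))) a).symm.trans ?_
    exact (congrArg _ ha).trans ((σ.app _).hom_inv_id_apply y)
  haveI : IsIso ((EtCoh.pullPushAdj (cpt' (R := R))).counit.app
      (EtCoh.Gm (Spec (CommRingCat.of (IsLocalRing.ResidueField R))))) :=
    EtFound.counit_isIso _ (EtFound.liftable_of_isClosedImmersion _) _
  rw [GmComp.alpha, Adjunction.homEquiv_counit]
  exact epi_comp _ _

variable (R) in
/-- The units congruent to one. -/
noncomputable abbrev N : EtCoh.Ab (Spec (CommRingCat.of (IsLocalRing.ResidueField R))) :=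
  kernel (GmComp.alpha (cpt' (R := R)))

variable (R) in
/-- The defining sequence. -/
noncomputable abbrev seqN : ShortComplex (EtCoh.Ab (Spec (CommRingCat.of (IsLocalRing.ResidueField R)))) :=
  ShortComplex.mk (kernel.ι (GmComp.alpha (cpt' (R := R)))) (GmComp.alpha (cpt' (R := R))) (kernel.condition _)

theorem shortExact_seqN : (seqN R).ShortExact :=
  haveI := epi_alpha (R := R)
  { exact := ShortComplex.exact_of_f_is_kernel _ (kernelIsKernel _) }

variable {M : Type u} [Field M] [Algebra (IsLocalRing.ResidueField R) M]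
  [FiniteDimensional (IsLocalRing.ResidueField R) M] [Algebra.IsSeparable (IsLocalRing.ResidueField R) M]

set_option maxHeartbeats 1000000 in
/-- Sections of `N` as units congruent to one of a lift. -/
theorem exists_unit_model : ∃ (B : Type u) (_ : CommRing B) (_ : HenselianLocalRing B) (r : B →+* M)
    (ρ : (M →ₐ[IsLocalRing.ResidueField R] M) → (B →+* B))
    (U : EtCoh.sect (N R) (CohTriv.obj (K := IsLocalRing.ResidueField R) M) →+ Additive Bˣ),
      Function.Surjective r ∧ (∀ b, r b = 0 ↔ b ∈ IsLocalRing.maximalIdeal B) ∧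
      (∀ g h b, ρ (g.comp h) b = ρ g (ρ h b)) ∧ (∀ g b, r (ρ g b) = g (r b)) ∧
      Function.Injective U ∧ (∀ z, r ((U z).toMul : B) = 1) ∧
      (∀ b : Bˣ, r (b : B) = 1 → ∃ z, U z = Additive.ofMul b) ∧
      (∀ g z, ((U (rs (N R) (GalDual.objMap g) z)).toMul : B) = ρ g ((U z).toMul : B)) := by
  let k := IsLocalRing.ResidueField R
  obtain ⟨B, _, _, _, _, _, e, hsurj, hker⟩ := exists_lift R M
  have hb := Hensel.bijective_tensorMap_id (A := R) (I := IsLocalRing.maximalIdeal R) B B
  have hψ : ∀ g : M →ₐ[k] M, ∃ ψ : B →ₐ[R] B, ∀ b, res B e (ψ b) = g (res B e b) := fun g => by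
    obtain ⟨ψ, hψ⟩ := hb.2 ((e.symm.toAlgHom.comp g).comp e.toAlgHom : k ⊗[R] B →ₐ[k] k ⊗[R] B)
    refine ⟨ψ, fun b => ?_⟩
    have h : ((1 : k) ⊗ₜ[R] ψ b) = e.symm (g (e (1 ⊗ₜ b))) := congr($hψ (1 ⊗ₜ b))
    exact (congrArg e h).trans (e.apply_symm_apply _)
  choose ψ hψ using hψ
  have huniq : ∀ φ φ' : B →ₐ[R] B, (∀ b, res B e (φ b) = res B e (φ' b)) → φ = φ' := fun φ φ' h =>
    hb.1 (Algebra.TensorProduct.ext' fun a b => by
      have hab : ((1 : k) ⊗ₜ[R] φ b) = 1 ⊗ₜ φ' b := e.injective (h b)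
      show a ⊗ₜ[R] φ b = a ⊗ₜ[R] φ' b
      rw [← mul_one a, ← one_mul (φ b), ← one_mul (φ' b), ← Algebra.TensorProduct.tmul_mul_tmul,
        ← Algebra.TensorProduct.tmul_mul_tmul]
      exact congrArg (a ⊗ₜ[R] (1 : B) * ·) hab)
  let θ := theta B e (EtCoh.Gm (Spec (CommRingCat.of R)))
  let hS := shortExact_seqN (R := R)
  haveI : Mono (kernel.ι (GmComp.alpha (cpt' (R := R)))) := inferInstance
  let ι := ((kernel.ι (GmComp.alpha (cpt' (R := R)))).hom.app
    (op (CohTriv.obj (K := IsLocalRing.ResidueField R) M))).hom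
  choose w hw using fun z => (theta_bijective B e (EtCoh.Gm (Spec (CommRingCat.of R)))).2 (ι z)
  have hadd : ∀ z z', w (z + z') = w z + w z' := fun z z' =>
    (theta_bijective B e _).1 ((hw _).trans (by rw [map_add, map_add, hw, hw]))
  let U : EtCoh.sect (N R) (CohTriv.obj (K := IsLocalRing.ResidueField R) M) →+ Additive Bˣ :=
    AddMonoidHom.mk' (fun z => Additive.ofMul (toB B (w z))) fun z z' => by
      rw [hadd, ← ofMul_mul]
      exact congrArg Additive.ofMul (map_mul (Units.map (Scheme.ΓSpecIso (CommRingCat.of B)).hom.hom.toMonoidHom)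
        (NormGm.un (U := VB R B) (w z)) (NormGm.un (U := VB R B) (w z')))
  have hinjM : Function.Injective (toM (R := R) (M := M)) := fun z z' h =>
    NormGm.un_injective _ (Units.map_injective
      (f := (Scheme.ΓSpecIso (CommRingCat.of M)).commRingCatIsoToRingEquiv.toMonoidHom)
      (Scheme.ΓSpecIso (CommRingCat.of M)).commRingCatIsoToRingEquiv.injective h)
  refine ⟨B, inferInstance, inferInstance, res B e, fun g => (ψ g).toRingHom, U, hsurj, hker, ?_, hψ, ?_, ?_, ?_, ?_⟩
  · intro g h b
    refine AlgHom.congr_fun (huniq (ψ (g.comp h)) ((ψ g).comp (ψ h)) fun b => ?_) b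
    rw [hψ, AlgHom.comp_apply, AlgHom.comp_apply, hψ, hψ]
  · intro z z' h
    refine SiteBase.sheaf_app_injective (kernel.ι (GmComp.alpha (cpt' (R := R)))) _ ?_
    exact (hw z).symm.trans ((congrArg θ ((toB_bijective B).1 (Additive.ofMul.injective h))).trans (hw z'))
  · intro z
    show res B e (toB B (w z) : B) = 1
    rw [← toM_alpha_theta, hw]
    have h0 : ((GmComp.alpha (cpt' (R := R))).hom.app (op (CohTriv.obj (K := IsLocalRing.ResidueField R) M))).hom
        (ι z) = 0 :=
      congrArg (fun t : N R ⟶ _ => (t.hom.app (op (CohTriv.obj (K := IsLocalRing.ResidueField R) M))).hom z)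
        (kernel.condition (GmComp.alpha (cpt' (R := R))))
    rw [h0]
    exact map_one (Scheme.ΓSpecIso (CommRingCat.of M)).hom.hom
  · intro b hb1
    obtain ⟨s, hs⟩ := (toB_bijective (R := R) B).2 b
    have h0 : ((GmComp.alpha (cpt' (R := R))).hom.app (op (CohTriv.obj (K := IsLocalRing.ResidueField R) M))).hom
        (θ s) = 0 := by
      refine hinjM (Units.ext ?_)
      refine (toM_alpha_theta B e s).trans ?_
      rw [hs, hb1]
      exact (map_one (Scheme.ΓSpecIso (CommRingCat.of M)).hom.hom).symm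
    obtain ⟨z, hz⟩ := FieldH1.exact_sections hS _ (θ s) h0
    refine ⟨z, congrArg Additive.ofMul ?_⟩
    rw [← hs]
    exact congrArg (toB B) ((theta_bijective B e _).1 ((hw z).trans hz))
  · intro g z
    show (toB B (w _) : B) = ψ g (toB B (w z) : B)
    rw [← toB_mvV]
    refine congrArg (fun s => (toB B s : B)) ((theta_bijective B e _).1 ((hw _).trans ?_))
    rw [theta_rs B e _ (ψ g) g (hψ g), hw]
    exact (rs_nat _ _ _).symm

theorem ct_N : CohTriv.CT (N R) := by
  refine CohTriv.CT.of_galois ?_ ?_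
  · intro E M _ _ _ _ _ _ _ _ _ _ _ _ b hb
    obtain ⟨B, _, _, r, ρ, U, hsurj, hker, hρ, hρr, hUi, hU1, hUs, hUe⟩ := exists_unit_model (R := R) (M := M)
    haveI : IsGalois E M := IsGalois.tower_top_of_isGalois (IsLocalRing.ResidueField R) E M
    let k := IsLocalRing.ResidueField R
    obtain ⟨c, hc1, hc⟩ := exists_prod_eq r hsurj hker (fun g => ρ (g.toAlgHom.restrictScalars k))
      (fun g h b => (congrArg (fun f => ρ f b) (AlgHom.ext fun _ => rfl)).trans
        (hρ (g.toAlgHom.restrictScalars k) (h.toAlgHom.restrictScalars k) b)) (fun g b => hρr _ b) ((U b).toMul : B) (hU1 b)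
      (fun g => (hUe _ b).symm.trans (congrArg (fun z => ((U z).toMul : B)) (hb g)))
    have hcu : IsUnit c := (isUnit_iff r hker c).2 (by rw [hc1]; exact one_ne_zero)
    obtain ⟨z, hz⟩ := hUs hcu.unit hc1
    refine ⟨z, hUi (Additive.toMul.injective (Units.ext ?_))⟩
    rw [map_sum, toMul_sum, Units.coe_prod, ← hc]
    refine Finset.prod_congr rfl fun g _ => ?_
    refine (hUe _ z).trans ?_
    rw [hz]
    rfl
  · intro E M _ _ _ _ _ _ _ _ _ _ _ _ c hc
    obtain ⟨B, _, _, r, ρ, U, hsurj, hker, hρ, hρr, hUi, hU1, hUs, hUe⟩ := exists_unit_model (R := R) (M := M)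
    haveI : IsGalois E M := IsGalois.tower_top_of_isGalois (IsLocalRing.ResidueField R) E M
    let k := IsLocalRing.ResidueField R
    obtain ⟨b, hb1, hb⟩ := exists_coboundary r hsurj hker (fun g => ρ (g.toAlgHom.restrictScalars k))
      (fun g h b => (congrArg (fun f => ρ f b) (AlgHom.ext fun _ => rfl)).trans
        (hρ (g.toAlgHom.restrictScalars k) (h.toAlgHom.restrictScalars k) b)) (fun g b => hρr _ b) (fun g => ((U (c g)).toMul : B)) (fun g => hU1 _)
      (fun g h => by
        show ((U (c (g * h))).toMul : B) = _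
        rw [hc h g, map_add, toMul_add, Units.val_mul]
        exact congrArg (· * _) (hUe _ _))
    have hbu : IsUnit b := (isUnit_iff r hker b).2 (by rw [hb1]; exact one_ne_zero)
    obtain ⟨z, hz⟩ := hUs hbu.unit hb1
    refine ⟨z, fun g => eq_sub_of_add_eq (hUi (Additive.toMul.injective (Units.ext ?_)))⟩
    rw [map_add, toMul_add, Units.val_mul]
    refine Eq.trans ?_ (hUe _ z).symm
    rw [hz]
    exact hb g

variable (R) in
/-- Restriction to the residue field is bijective in positive degrees. -/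
theorem HGmPull_cpt_bijective [PreservesFiniteLimits (EtCoh.pull (EtFound.cpt R))] (i : ℕ) (hi : 1 ≤ i) :
    Function.Bijective (EtLim.HGmPull (EtFound.cpt R) i) := by
  have hS := shortExact_seqN (R := R)
  have hN : ∀ n, 1 ≤ n → Subsingleton (EtCoh.H _ (N R) n) := fun n hn => CohTriv.subsingleton_H ct_N n hn
  have h1 : Function.Bijective (fun x : EtCoh.H _ ((EtCoh.pull (EtFound.cpt R)).obj (EtCoh.Gm _)) i =>
      (EtCoh.HF _ i).map (GmComp.alpha (EtFound.cpt R)) x) := by
    refine ⟨fun x y hxy => sub_eq_zero.1 ?_, fun y => ?_⟩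
    · have h0 : (x - y).comp (Ext.mk₀ (GmComp.alpha (EtFound.cpt R))) (add_zero i) = 0 := by
        have hxy' : x.comp (Ext.mk₀ (GmComp.alpha (EtFound.cpt R))) (add_zero i) =
            y.comp (Ext.mk₀ (GmComp.alpha (EtFound.cpt R))) (add_zero i) := hxy
        rw [sub_eq_add_neg, Ext.add_comp, Ext.neg_comp, hxy', add_neg_cancel]
      obtain ⟨z, hz⟩ := Ext.covariant_sequence_exact₂ _ hS (x - y) h0
      rw [← hz, (hN i hi).elim z 0, Ext.zero_comp]
    · exact Ext.covariant_sequence_exact₃ _ hS y rfl ((hN (i + 1) (by omega)).elim _ _)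
  have h2 := h1.comp (EtLC12.HenselClosedPoint.Hpull_bijective R (EtCoh.Gm _) i)
  refine Eq.mp (congrArg Function.Bijective (funext fun x => ?_)) h2
  exact (GmComp.HGmPull_eq (EtFound.cpt R) i x).symm

end Groth.Agent.DixBrauer.HenselUnits
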