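import Groth.Agent.DixBrauer.HenselUnits.Algebra
import Groth.Agent.DixBrauer.CohTriv.Criterion
import Groth.Agent.EtLC12.HenselClosedPoint
import Groth.Agent.DixBrauer.GmComp
import Groth.Agent.DixBrauer.GenericPoint

/-!
Sections of `i⁻¹ F` at finite separable extensions of the residue field of a henselian local ring.
-/

universe u

set_option linter.style.haveILetI false
set_option linter.unusedSectionVars false
set_option backward.isDefEq.respectTransparency.types false

open CategoryTheory CategoryTheory.Limits CategoryTheory.Abelian AlgebraicGeometry Opposite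
open scoped TensorProduct

namespace Groth.Agent.DixBrauer.HenselUnits

open GalCover

variable {R : Type u} [CommRing R] [HenselianLocalRing R]

/-- The closed point. -/
noncomputable abbrev cpt' : Spec (CommRingCat.of (IsLocalRing.ResidueField R)) ⟶ Spec (CommRingCat.of R) :=
  EtFound.cpt R

variable (B : Type u) [CommRing B] [Algebra R B] [HenselianLocalRing B] [Module.Finite R B] [Algebra.Etale R B]

variable (R) in
/-- The morphism of spectra. -/
noncomputable abbrev pB : Spec (CommRingCat.of B) ⟶ Spec (CommRingCat.of R) :=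
  Spec.map (CommRingCat.ofHom (algebraMap R B))

instance etale_pB : AlgebraicGeometry.Etale (pB R B) := by
  rw [HasRingHomProperty.Spec_iff (P := @AlgebraicGeometry.Etale)]
  exact RingHom.etale_algebraMap.2 inferInstance

instance jcont_pB : EtShriek.JCont (pB R B) := GalDual.jcont _

variable (R) in
/-- The étale neighbourhood. -/
noncomputable abbrev VB : (Spec (CommRingCat.of R)).Etale := GalDual.objU (pB R B)

theorem bijective_unit_VB (F : EtCoh.Ab (Spec (CommRingCat.of R))) :
    Function.Bijective (((EtCoh.pullPushAdj (cpt' (R := R))).unit.app F).hom.app (op (VB R B))) := by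
  let φ := (EtCoh.pullPushAdj (cpt' (R := R))).unit.app F
  let π := pB R B
  have hstalk : ∀ (Ω : Type u) [Field Ω] [IsAlgClosed Ω] (ξ : Spec (CommRingCat.of Ω) ⟶ Spec (CommRingCat.of B)),
      ξ.base default = IsLocalRing.closedPoint B → IsIso ((EtCoh.stalk ξ).map ((EtCoh.pull π).map φ)) := by
    intro Ω _ _ ξ hξ
    have hc : (ξ ≫ π).base default = IsLocalRing.closedPoint R := by
      have := Hensel.isLocalHom_of_isIntegral_local R B
      rw [Scheme.Hom.comp_apply, hξ]
      exact IsLocalRing.comap_closedPoint (algebraMap R B)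
    haveI h1 := EtLC12.HenselClosedPoint.isIso_stalk_unit R F Ω (ξ ≫ π) hc
    exact (NatIso.isIso_map_iff (EtFound.sheafFiberPullIso (A := AddCommGrpCat.{u + 1}) π ξ) φ).2 h1
  have hb := EtLC12.HenselVanish.postcomp_bijective (A := B) ((EtCoh.pull π).map φ) hstalk 0
  have h0 : Function.Bijective (fun f : EtCoh.const (Spec (CommRingCat.of B)) ℤ ⟶ (EtCoh.pull π).obj F =>
      f ≫ (EtCoh.pull π).map φ) := by
    refine ⟨fun f g h => ?_, fun y => ?_⟩
    · refine (Ext.mk₀_bijective _ _).1 (hb.1 ?_)
      show (Ext.mk₀ f).comp _ _ = (Ext.mk₀ g).comp _ _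
      rw [Ext.mk₀_comp_mk₀, Ext.mk₀_comp_mk₀]
      exact congrArg Ext.mk₀ h
    · obtain ⟨z, hz⟩ := hb.2 (Ext.mk₀ y)
      obtain ⟨f, rfl⟩ := (Ext.mk₀_bijective _ _).2 z
      refine ⟨f, (Ext.mk₀_bijective _ _).1 ?_⟩
      rw [← hz]
      exact (Ext.mk₀_comp_mk₀ _ _).symm
  let a := (GalDual.shrAdj π).homEquiv (EtCoh.const (Spec (CommRingCat.of B)) ℤ)
  have h1 : Function.Bijective (fun g : GalDual.repZ π ⟶ F => g ≫ φ) := by
    have : (fun g : GalDual.repZ π ⟶ F => g ≫ φ) =
        fun g => (a _).symm ((fun f => f ≫ (EtCoh.pull π).map φ) (a _ g)) := funext fun g => by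
      refine ((a _).symm_apply_apply _).symm.trans (congrArg (a _).symm ?_)
      exact (GalDual.shrAdj π).homEquiv_naturality_right g φ
    rw [this]
    exact (a _).symm.bijective.comp (h0.comp (a _).bijective)
  have h2 : (fun z => (φ.hom.app (op (VB R B))).hom z) =
      fun z => GalDual.secOf π _ ((fun g => g ≫ φ) ((GalDual.secOf π F).symm z)) := funext fun z => by
    refine Eq.trans ?_ (GalDual.secOf_comp π _ φ).symm
    exact (congrArg (φ.hom.app (op (VB R B))).hom ((GalDual.secOf π F).apply_symm_apply z)).symm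
  show Function.Bijective fun z => (φ.hom.app (op (VB R B))).hom z
  rw [h2]
  exact (GalDual.secOf π _).bijective.comp (h1.comp (GalDual.secOf π F).symm.bijective)

variable {M : Type u} [Field M] [Algebra (IsLocalRing.ResidueField R) M]
  [FiniteDimensional (IsLocalRing.ResidueField R) M] [Algebra.IsSeparable (IsLocalRing.ResidueField R) M]
variable (e : IsLocalRing.ResidueField R ⊗[R] B ≃ₐ[IsLocalRing.ResidueField R] M)

/-- The residue map of the lift. -/
noncomputable abbrev res : B →+* M :=
  e.toAlgHom.toRingHom.comp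
    (Algebra.TensorProduct.includeRight (R := R) (A := IsLocalRing.ResidueField R) (B := B)).toRingHom

theorem res_algebraMap (x : R) :
    res B e (algebraMap R B x) = algebraMap (IsLocalRing.ResidueField R) M (IsLocalRing.residue R x) := by
  refine (congrArg e (?_ : (1 : IsLocalRing.ResidueField R) ⊗ₜ[R] algebraMap R B x =
    algebraMap (IsLocalRing.ResidueField R) (IsLocalRing.ResidueField R ⊗[R] B) (IsLocalRing.residue R x))).trans
      (e.commutes _)
  rw [Algebra.algebraMap_eq_smul_one x, ← TensorProduct.smul_tmul, Algebra.TensorProduct.algebraMap_apply,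
    Algebra.smul_def, mul_one]
  rfl

theorem rho_cond : Spec.map (CommRingCat.ofHom (res B e)) ≫ (VB R B).hom =
    Spec.map (CommRingCat.ofHom (algebraMap (IsLocalRing.ResidueField R) M)) ≫ cpt' (R := R) := by
  show _ ≫ 𝟙 _ ≫ Spec.map _ = _
  rw [Category.id_comp]
  refine (Spec.map_comp _ _).symm.trans (Eq.trans (congrArg Spec.map ?_) (Spec.map_comp _ _))
  exact CommRingCat.hom_ext (RingHom.ext fun x => res_algebraMap B e x)

/-- The comparison of `obj M` with the closed fibre. -/
noncomputable def rho : CohTriv.obj (K := IsLocalRing.ResidueField R) M ⟶ (EtCoh.bc (cpt' (R := R))).obj (VB R B) :=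
  MorphismProperty.Over.homMk (pullback.lift (Spec.map (CommRingCat.ofHom (res B e))) _ (rho_cond B e)) (by
    refine (pullback.lift_snd _ _ _).trans ?_
    exact (Category.id_comp _).symm)

instance isIso_rho : IsIso (rho B e) := by
  have sq : IsPullback (Spec.map (CommRingCat.ofHom (res B e)))
      (Spec.map (CommRingCat.ofHom (algebraMap (IsLocalRing.ResidueField R) M))) (pB R B) (cpt' (R := R)) := by
    refine (IsPullback.of_hasPullback (cpt' (R := R)) (pB R B)).flip.of_iso
      (pullbackSpecIso R (IsLocalRing.ResidueField R) B ≪≫ Scheme.Spec.mapIso e.toRingEquiv.toCommRingCatIso.symm.op)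
      (Iso.refl _) (Iso.refl _) (Iso.refl _) ?_ ?_ (by simp) (by simp)
    · simp only [Iso.refl_hom, Category.comp_id, Iso.trans_hom, Category.assoc]
      refine (pullbackSpecIso_hom_snd _ _ _).symm.trans (congrArg (_ ≫ ·) ?_)
      refine Eq.trans ?_ (Spec.map_comp _ _)
      refine congrArg Spec.map ?_
      exact CommRingCat.hom_ext (RingHom.ext fun x => (e.symm_apply_apply _).symm)
    · simp only [Iso.refl_hom, Category.comp_id, Iso.trans_hom, Category.assoc]
      refine (pullbackSpecIso_hom_fst' _ _ _).symm.trans (congrArg (_ ≫ ·) ?_)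
      refine Eq.trans ?_ (Spec.map_comp _ _)
      refine congrArg Spec.map ?_
      exact CommRingCat.hom_ext (RingHom.ext fun x => ((e.symm.commutes x)).symm)
  have sq' : IsPullback (Spec.map (CommRingCat.ofHom (res B e)))
      (Spec.map (CommRingCat.ofHom (algebraMap (IsLocalRing.ResidueField R) M))) (VB R B).hom (cpt' (R := R)) := by
    rw [show (VB R B).hom = pB R B from Category.id_comp _]
    exact sq
  haveI h1 : IsIso ((CategoryTheory.Over.forget _).map
      ((Scheme.Etale.forget (Spec (CommRingCat.of (IsLocalRing.ResidueField R)))).map (rho B e))) :=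
    (inferInstance : IsIso sq'.isoPullback.hom)
  haveI : IsIso ((Scheme.Etale.forget (Spec (CommRingCat.of (IsLocalRing.ResidueField R)))).map (rho B e)) :=
    isIso_of_reflects_iso _ (CategoryTheory.Over.forget _)
  exact isIso_of_reflects_iso (rho B e) (Scheme.Etale.forget _)

variable (F : EtCoh.Ab (Spec (CommRingCat.of R)))

/-- Sections over the lift give sections over `M`. -/
noncomputable def theta : EtCoh.sect F (VB R B) →+
    EtCoh.sect ((EtCoh.pull (cpt' (R := R))).obj F) (CohTriv.obj (K := IsLocalRing.ResidueField R) M) :=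
  (rs ((EtCoh.pull (cpt' (R := R))).obj F) (rho B e)).comp
    (((EtCoh.pullPushAdj (cpt' (R := R))).unit.app F).hom.app (op (VB R B))).hom

theorem theta_bijective : Function.Bijective (theta B e F) := by
  show Function.Bijective (⇑(rs ((EtCoh.pull (cpt' (R := R))).obj F) (rho B e)) ∘
    ⇑(((EtCoh.pullPushAdj (cpt' (R := R))).unit.app F).hom.app (op (VB R B))).hom)
  refine Function.Bijective.comp ?_ (bijective_unit_VB B F)
  exact (ConcreteCategory.isIso_iff_bijective
    (((EtCoh.pull (cpt' (R := R))).obj F).obj.map (rho B e).op)).1 inferInstance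

variable (ψ : B →ₐ[R] B)

/-- The endomorphism of the neighbourhood. -/
noncomputable def mvV : VB R B ⟶ VB R B :=
  MorphismProperty.Over.homMk (Spec.map (CommRingCat.ofHom ψ.toRingHom)) (by
    show Spec.map _ ≫ 𝟙 _ ≫ pB R B = 𝟙 _ ≫ pB R B
    simp only [Category.id_comp]
    rw [← Spec.map_comp]
    congr 1
    exact CommRingCat.hom_ext ψ.comp_algebraMap)

variable (x : M →ₐ[IsLocalRing.ResidueField R] M) (hx : ∀ b, res B e (ψ b) = x (res B e b))

include hx in
theorem rho_natural : GalDual.objMap x ≫ rho B e = rho B e ≫ (EtCoh.bc (cpt' (R := R))).map (mvV B ψ) := by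
  refine MorphismProperty.Over.Hom.ext (pullback.hom_ext ?_ ?_)
  · show (Spec.map _ ≫ pullback.lift _ _ _) ≫ pullback.fst _ _ =
      (pullback.lift _ _ _ ≫ ((EtCoh.bc (cpt' (R := R))).map (mvV B ψ)).left) ≫ pullback.fst _ _
    refine (Category.assoc _ _ _).trans (Eq.trans ?_ (Category.assoc _ _ _).symm)
    refine (congrArg (Spec.map (CommRingCat.ofHom x.toRingHom) ≫ ·) (pullback.lift_fst _ _ _)).trans ?_
    refine Eq.trans ?_ (congrArg (pullback.lift _ _ _ ≫ ·) (EtCoh.isPullback_bc_map (cpt' (R := R)) (mvV B ψ)).w).symm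
    refine Eq.trans ?_ (pullback.lift_fst_assoc _ _ _ _).symm
    refine (Spec.map_comp _ _).symm.trans (Eq.trans (congrArg Spec.map ?_) (Spec.map_comp _ _))
    exact CommRingCat.hom_ext (RingHom.ext fun b => (hx b).symm)
  · exact (MorphismProperty.Over.w (GalDual.objMap x ≫ rho B e)).trans
      (MorphismProperty.Over.w (rho B e ≫ (EtCoh.bc (cpt' (R := R))).map (mvV B ψ))).symm

include hx in
theorem theta_rs (z : EtCoh.sect F (VB R B)) :
    theta B e F (rs F (mvV B ψ) z) = rs _ (GalDual.objMap x) (theta B e F z) := by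
  show rs _ (rho B e) _ = rs _ (GalDual.objMap x) (rs _ (rho B e) _)
  rw [rs_comp, rho_natural B e ψ x hx, ← rs_comp]
  exact congrArg _ (NatTrans.naturality_apply ((EtCoh.pullPushAdj (cpt' (R := R))).unit.app F).hom (mvV B ψ).op z)

/-- The element of a unit section. -/
noncomputable abbrev toB (z : EtCoh.sect (EtCoh.Gm (Spec (CommRingCat.of R))) (VB R B)) : Bˣ :=
  Units.map (Scheme.ΓSpecIso (CommRingCat.of B)).hom.hom.toMonoidHom (NormGm.un (U := VB R B) z)

/-- The element of a unit section over `M`. -/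
noncomputable abbrev toM (z : EtCoh.sect (EtCoh.Gm (Spec (CommRingCat.of (IsLocalRing.ResidueField R))))
    (CohTriv.obj (K := IsLocalRing.ResidueField R) M)) : Mˣ :=
  Units.map (Scheme.ΓSpecIso (CommRingCat.of M)).hom.hom.toMonoidHom
    (NormGm.un (U := CohTriv.obj (K := IsLocalRing.ResidueField R) M) z)

theorem toB_bijective : Function.Bijective (toB (R := R) B) := by
  let ε := (Scheme.ΓSpecIso (CommRingCat.of B)).commRingCatIsoToRingEquiv
  refine ⟨fun z z' h => NormGm.un_injective _ (Units.map_injective (f := ε.toMonoidHom) ε.injective h),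
    fun v => ⟨NormGm.mk _ (Units.map ε.symm.toMonoidHom v), Units.ext (ε.apply_symm_apply v)⟩⟩

theorem toB_mvV (z : EtCoh.sect (EtCoh.Gm (Spec (CommRingCat.of R))) (VB R B)) :
    (toB B (rs (EtCoh.Gm _) (mvV B ψ) z) : B) = ψ (toB B z : B) :=
  ConcreteCategory.congr_hom (Scheme.ΓSpecIso_naturality (CommRingCat.ofHom ψ.toRingHom))
    (NormGm.un (U := VB R B) z : Γ((VB R B).left, ⊤))

theorem toM_alpha_theta (z : EtCoh.sect (EtCoh.Gm (Spec (CommRingCat.of R))) (VB R B)) :
    (toM (((GmComp.alpha (cpt' (R := R))).hom.app (op (CohTriv.obj (K := IsLocalRing.ResidueField R) M))).hom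
      (theta B e (EtCoh.Gm _) z)) : M) = res B e (toB B z : B) := by
  have hadj : (EtCoh.pullPushAdj (cpt' (R := R))).unit.app (EtCoh.Gm _) ≫
      (EtCoh.push (cpt' (R := R))).map (GmComp.alpha (cpt' (R := R))) = EtLim.GmPush (cpt' (R := R)) :=
    ((EtCoh.pullPushAdj _).homEquiv_unit _ _ _).symm.trans (Equiv.apply_symm_apply _ _)
  rw [theta, AddMonoidHom.comp_apply, ← rs_nat]
  refine (congrArg (fun y => ((toM (rs (EtCoh.Gm _) (rho B e) y)) : M))
    (congrArg (fun t : EtCoh.Gm (Spec (CommRingCat.of R)) ⟶ _ => (t.hom.app (op (VB R B))).hom z) hadj)).trans ?_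
  show (Scheme.ΓSpecIso (CommRingCat.of M)).hom.hom ((rho B e).left.appTop.hom
    ((pullback.fst (VB R B).hom (cpt' (R := R))).appTop.hom _)) = _
  have hl : (rho B e).left ≫ pullback.fst (VB R B).hom (cpt' (R := R)) = Spec.map (CommRingCat.ofHom (res B e)) :=
    pullback.lift_fst _ _ _
  refine Eq.trans ?_ (ConcreteCategory.congr_hom (Scheme.ΓSpecIso_naturality (CommRingCat.ofHom (res B e)))
    (NormGm.un (U := VB R B) z : Γ((VB R B).left, ⊤)))
  exact congrArg (fun m : Spec (CommRingCat.of M) ⟶ Spec (CommRingCat.of B) =>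
    (Scheme.ΓSpecIso (CommRingCat.of M)).hom.hom (m.appTop.hom (NormGm.un (U := VB R B) z : Γ((VB R B).left, ⊤)))) hl

end Groth.Agent.DixBrauer.HenselUnits
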